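import Groth.Agent.H17.RatCurve.Algebra

/-!
# A curve dominated by the affine line has an open piece of the affine line
-/

universe u

open CategoryTheory AlgebraicGeometry Polynomial TopologicalSpace

namespace Groth.Agent.H17.RatCurve

variable {k : Type u} [Field k]

/-- Isomorphic open pieces give isomorphic open subschemes. -/
theorem exists_opens_iso {X Y W W' : Scheme.{u}} {S : Scheme.{u}} (qX : X ⟶ S) (qY : Y ⟶ S) (a : W ⟶ X)
    (c : W' ⟶ Y) [IsOpenImmersion a] [IsOpenImmersion c] [Nonempty W] (ε : W ≅ W')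
    (h : a ≫ qX = ε.hom ≫ c ≫ qY) :
    ∃ (U : X.Opens) (V : Y.Opens) (e : (↑U : Scheme.{u}) ≅ ↑V), Nonempty U ∧ e.hom ≫ V.ι ≫ qY = U.ι ≫ qX := by
  refine ⟨a.opensRange, c.opensRange, a.isoOpensRange.symm ≪≫ ε ≪≫ c.isoOpensRange, ⟨⟨a (Classical.arbitrary W), _, rfl⟩⟩, ?_⟩
  rw [← cancel_epi a.isoOpensRange.hom]
  simp only [Iso.trans_hom, Iso.symm_hom, Category.assoc, Iso.hom_inv_id_assoc, Scheme.Hom.isoOpensRange_hom_ι_assoc]
  exact h.symm

/-- A nonzero localization of `k[X]` has a point. -/
theorem nonempty_spec_away {q : k[X]} (hq : q ≠ 0) : Nonempty (Spec (CommRingCat.of (Localization.Away q))) := by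
  haveI : IsDomain (Localization.Away q) :=
    IsLocalization.isDomain_localization (powers_le_nonZeroDivisors_of_noZeroDivisors hq)
  exact inferInstanceAs (Nonempty (PrimeSpectrum (Localization.Away q)))

theorem isDomain_away {q : k[X]} (hq : q ≠ 0) : IsDomain (Localization.Away q) :=
  IsLocalization.isDomain_localization (powers_le_nonZeroDivisors_of_noZeroDivisors hq)

/-- An integral curve over `k` dominated by the affine line has an open piece of the affine line as an open. -/
theorem exists_openImmersion_of_dominant {C : Scheme.{u}} (qC : C ⟶ Spec (CommRingCat.of k)) [LocallyOfFiniteType qC]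
    [IsIntegral C] (hdim : topologicalKrullDim C = 1) (g : Spec (CommRingCat.of k[X]) ⟶ C) [IsDominant g]
    (hg : g ≫ qC = Spec.map (CommRingCat.ofHom (algebraMap k k[X]))) :
    ∃ (q : k[X]) (a : Spec (CommRingCat.of (Localization.Away q)) ⟶ C), q ≠ 0 ∧ IsOpenImmersion a ∧
      a ≫ qC = Spec.map (CommRingCat.ofHom (algebraMap k (Localization.Away q))) := by
  classical
  obtain ⟨U, hU, hxU, -⟩ := exists_isAffineOpen_mem_and_subset (Opens.mem_top (Classical.arbitrary C))
  haveI : Nonempty U := ⟨⟨_, hxU⟩⟩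
  let B : CommRingCat.{u} := Γ(C, U)
  obtain ⟨α, hα⟩ : ∃ α : CommRingCat.of k ⟶ B, Spec.map α = hU.fromSpec ≫ qC := ⟨_, Spec.map_preimage _⟩
  letI : Algebra k B := α.hom.toAlgebra
  have hft : LocallyOfFiniteType (Spec.map α) := hα ▸ inferInstance
  haveI : Algebra.FiniteType k B := (HasRingHomProperty.Spec_iff (P := @LocallyOfFiniteType)).1 hft
  obtain ⟨y, hy⟩ := g.denseRange.exists_mem_open U.2 ⟨_, hxU⟩
  obtain ⟨_, ⟨_, ⟨h, rfl⟩, rfl⟩, hy', hhU⟩ :=
    (PrimeSpectrum.isBasis_basic_opens (R := k[X])).exists_subset_of_mem_open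
      (show y ∈ (SetLike.coe (g ⁻¹ᵁ U) : Set (PrimeSpectrum k[X])) from hy) (g ⁻¹ᵁ U).2
  have hh : h ≠ 0 := fun e => by
    rw [e, PrimeSpectrum.basicOpen_zero] at hy'
    exact hy'
  let loc : Spec (CommRingCat.of (Localization.Away h)) ⟶ Spec (CommRingCat.of k[X]) :=
    Spec.map (CommRingCat.ofHom (algebraMap k[X] (Localization.Away h)))
  have hloc : Set.range loc = (PrimeSpectrum.basicOpen h : Set (PrimeSpectrum k[X])) :=
    PrimeSpectrum.localization_away_comap_range (Localization.Away h) h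
  have hrange : Set.range (loc ≫ g) ⊆ Set.range hU.fromSpec := by
    rw [hU.range_fromSpec]
    rintro _ ⟨z, rfl⟩
    exact hhU (hloc.subset ⟨z, rfl⟩)
  let l := IsOpenImmersion.lift hU.fromSpec (loc ≫ g) hrange
  have hl : l ≫ hU.fromSpec = loc ≫ g := IsOpenImmersion.lift_fac _ _ _
  obtain ⟨ψ, hψ⟩ : ∃ ψ : B ⟶ CommRingCat.of (Localization.Away h), Spec.map ψ = l := ⟨_, Spec.map_preimage _⟩
  have hψk : α ≫ ψ = CommRingCat.ofHom (algebraMap k (Localization.Away h)) := by
    apply Spec.map_injective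
    rw [Spec.map_comp, hα, hψ, ← Category.assoc, hl, Category.assoc, hg, ← Spec.map_comp]
    rfl
  haveI : IsDominant loc := ⟨by
    rw [DenseRange, dense_iff_closure_eq, hloc, ← dense_iff_closure_eq]
    exact (PrimeSpectrum.basicOpen h).2.dense ⟨y, hy'⟩⟩
  have hld : DenseRange l := by
    have hd : DenseRange (loc ≫ g) := (loc ≫ g).denseRange
    rw [DenseRange, dense_iff_closure_eq, hU.fromSpec.isOpenEmbedding.isEmbedding.closure_eq_preimage_closure_image,
      ← Set.range_comp]
    have hc : (hU.fromSpec ∘ l : _ → C) = (loc ≫ g : _ ⟶ C) := by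
      funext z
      rw [Function.comp_apply, ← Scheme.Hom.comp_apply, hl]
    rw [hc, hd.closure_eq, Set.preimage_univ]
  have hψi : Function.Injective ψ.hom := by
    rw [RingHom.injective_iff_ker_eq_bot, ← le_bot_iff]
    have h1 : DenseRange (PrimeSpectrum.comap ψ.hom) := by rw [← hψ] at hld; exact hld
    exact ((PrimeSpectrum.denseRange_comap_iff_ker_le_nilRadical ψ.hom).1 h1).trans (nilradical_eq_zero B).le
  have hu : ∀ y : Submonoid.powers h, IsUnit ((IsScalarTower.toAlgHom k k[X] (RatFunc k)) y.1) := fun y => by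
    obtain ⟨_, n, rfl⟩ := y
    exact isUnit_iff_ne_zero.2 ((map_ne_zero_iff _ (IsFractionRing.injective k[X] (RatFunc k))).2 (pow_ne_zero n hh))
  let L : Localization.Away h →ₐ[k] RatFunc k := IsLocalization.liftAlgHom hu
  have hLi : Function.Injective L := by
    refine (IsLocalization.lift_injective_iff _).2 fun a b => ?_
    have h1 := (IsLocalization.injective (Localization.Away h) (powers_le_nonZeroDivisors_of_noZeroDivisors hh)).eq_iff (a := a) (b := b)
    exact ⟨fun e => congrArg _ (h1.1 e), fun e => h1.2 (IsFractionRing.injective k[X] (RatFunc k) e)⟩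
  let ψₐ : B →ₐ[k] Localization.Away h :=
    { ψ.hom with commutes' := fun c => congr($hψk c) }
  let Φ : B →ₐ[k] RatFunc k := L.comp ψₐ
  have hΦ : Function.Injective Φ := hLi.comp hψi
  have hne : ∃ a, ∀ c : k, Φ a ≠ algebraMap k (RatFunc k) c := by
    by_contra hcon
    push_neg at hcon
    have hs : Function.Surjective (algebraMap k B) := fun a => by
      obtain ⟨c, hc⟩ := hcon a
      exact ⟨c, hΦ (by rw [AlgHom.commutes, hc])⟩
    haveI : Subsingleton (PrimeSpectrum B) :=
      (PrimeSpectrum.comap_injective_of_surjective (algebraMap k B) hs).subsingleton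
    haveI : JacobsonSpace C := LocallyOfFiniteType.jacobsonSpace qC
    have hsing : (U : Set C) = {Classical.arbitrary C} := by
      refine Set.Subset.antisymm (fun z hz => ?_) (Set.singleton_subset_iff.2 hxU)
      rw [← hU.range_fromSpec] at hz
      obtain ⟨p, rfl⟩ := hz
      obtain ⟨p', hp'⟩ : Classical.arbitrary C ∈ Set.range hU.fromSpec := by rw [hU.range_fromSpec]; exact hxU
      rw [Set.mem_singleton_iff, Subsingleton.elim (α := PrimeSpectrum B) p p']
      exact hp'
    have hcl : IsClosed ({Classical.arbitrary C} : Set C) :=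
      isClosed_singleton_of_isLocallyClosed_singleton (hsing ▸ U.2.isLocallyClosed)
    have huniv : ({Classical.arbitrary C} : Set C) = Set.univ :=
      hcl.closure_eq ▸ ((hsing ▸ U.2 : IsOpen ({Classical.arbitrary C} : Set C)).dense ⟨_, rfl⟩).closure_eq
    haveI : Subsingleton C := ⟨fun a b => by
      have ha : a ∈ ({Classical.arbitrary C} : Set C) := huniv ▸ trivial
      have hb : b ∈ ({Classical.arbitrary C} : Set C) := huniv ▸ trivial
      exact ha.trans hb.symm⟩
    haveI : Subsingleton (IrreducibleCloseds C) := ⟨fun a b => IrreducibleCloseds.ext (by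
      obtain ⟨x, hx⟩ := a.isIrreducible.nonempty
      obtain ⟨y, hy⟩ := b.isIrreducible.nonempty
      ext z
      rw [Subsingleton.elim z x]
      exact ⟨fun _ => Subsingleton.elim y x ▸ hy, fun _ => hx⟩)⟩
    haveI : Nonempty (IrreducibleCloseds C) :=
      ⟨⟨{Classical.arbitrary C}, isIrreducible_singleton, hcl⟩⟩
    rw [topologicalKrullDim, Order.krullDim_eq_zero] at hdim
    exact absurd hdim (by decide)
  obtain ⟨Ψ, hΨ, hfrac⟩ := exists_full_hom Φ hΦ hne
  obtain ⟨b, q, hb, hq, ⟨eB⟩⟩ := exists_away_equiv Ψ hΨ hfrac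
  let ι₁ := Spec.map (CommRingCat.ofHom (algebraMap B (Localization.Away b)))
  haveI : IsOpenImmersion ι₁ := IsOpenImmersion.of_isLocalization b
  let ε := eB.toRingEquiv.toCommRingCatIso
  refine ⟨q, Spec.map ε.hom ≫ ι₁ ≫ hU.fromSpec, hq, inferInstance, ?_⟩
  rw [Category.assoc, Category.assoc, ← hα, ← Spec.map_comp, ← Spec.map_comp]
  congr 1
  ext c
  exact eB.commutes c

end Groth.Agent.H17.RatCurve
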