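import Groth.Agent.H17.RatCurve.Scheme
import Groth.Agent.H17.P1Fibre
import Groth.Agent.H28Curve.ProjLine
import Groth.Agent.H28Neron.Extend
import Groth.Agent.H8Props.FlatDimOneBase

/-!
# Rational curves and images of the projective line
-/

universe u

open CategoryTheory AlgebraicGeometry Polynomial TopologicalSpace

namespace Groth.Agent.H17.RatCurve

variable (k : Type u) [Field k]

/-- The chart has one coordinate. -/
instance : Unique (P1Fibre.σ (0 : Fin (1 + 1))) :=
  { default := ⟨1, by decide⟩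
    uniq := fun j => by
      obtain ⟨j, hj⟩ := j
      refine Subtype.ext ?_
      fin_cases j <;> first | rfl | exact absurd rfl hj }

/-- The affine line in the projective line. -/
noncomputable def lineChart : Spec (CommRingCat.of k[X]) ⟶ CohB1.ProjSpace 1 k :=
  Spec.map (CommRingCat.ofHom (MvPolynomial.uniqueAlgEquiv k (P1Fibre.σ (0 : Fin (1 + 1)))).toRingEquiv.toRingHom) ≫
    P1Fibre.chart k 0

instance : IsOpenImmersion (lineChart k) := by
  haveI := P1Fibre.isIso_chartInv k (0 : Fin (1 + 1))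
  unfold lineChart P1Fibre.chart
  haveI : IsIso (CommRingCat.ofHom (MvPolynomial.uniqueAlgEquiv k (P1Fibre.σ (0 : Fin (1 + 1)))).toRingEquiv.toRingHom) :=
    (MvPolynomial.uniqueAlgEquiv k (P1Fibre.σ (0 : Fin (1 + 1)))).toRingEquiv.toCommRingCatIso.isIso_hom
  haveI : IsOpenImmersion (Proj.awayι (CohB1.polyGrading 1 k) (MvPolynomial.X (0 : Fin (1 + 1)))
      (H11Proj.ProjSpace.X_mem 1 k 0) one_pos) := inferInstance
  exact MorphismProperty.comp_mem @IsOpenImmersion _ _ inferInstance (MorphismProperty.comp_mem @IsOpenImmersion _ _ inferInstance this)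

theorem lineChart_toSpec :
    lineChart k ≫ CohB1.ProjSpace.toSpec 1 k = Spec.map (CommRingCat.ofHom (algebraMap k k[X])) := by
  unfold lineChart
  simp only [Category.assoc, P1Fibre.chart_toSpec, ← Spec.map_comp]
  congr 1
  refine CommRingCat.hom_ext (RingHom.ext fun c => ?_)
  exact AlgEquiv.commutes (MvPolynomial.uniqueAlgEquiv k (P1Fibre.σ (0 : Fin (1 + 1)))) c

/-- Morphisms on a nonempty open of the projective line to a proper scheme extend. -/
theorem exists_extension {Y : Scheme.{u}} (qY : Y ⟶ Spec (CommRingCat.of k)) [IsProper qY]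
    (V : (CohB1.ProjSpace 1 k).Opens) [Nonempty V] (f : V.toScheme ⟶ Y)
    (hf : f ≫ qY = V.ι ≫ CohB1.ProjSpace.toSpec 1 k) :
    ∃ g : CohB1.ProjSpace 1 k ⟶ Y, g ≫ qY = CohB1.ProjSpace.toSpec 1 k ∧ V.ι ≫ g = f := by
  obtain ⟨hint, -, hdim⟩ := H28Curve.projLine_facts k
  haveI := hint
  haveI : Smooth (CohB1.ProjSpace.toSpec 1 k) := H26Smooth.smooth_toSpec 1 k
  obtain ⟨W, hW, g, hg, hres, hcod⟩ := H28Neron.exists_extension_off_codim_two (CohB1.ProjSpace.toSpec 1 k) qY V
    (V.2.dense ⟨_, (Classical.arbitrary V).2⟩) f hf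
  have htop : W = ⊤ := top_le_iff.1 fun x _ => by
    by_contra hx
    have := (hcod x hx).trans ((H8Props.FlatDimOneBase.ringKrullDim_stalk_le _ x).trans hdim.le)
    exact absurd (show 2 ≤ 1 by exact_mod_cast this) (by omega)
  subst htop
  refine ⟨(Scheme.topIso _).inv ≫ g, ?_, ?_⟩
  · rw [Category.assoc, hg]
    exact (Scheme.topIso _).inv_hom_id_assoc _
  · rw [← hres, ← (CohB1.ProjSpace 1 k).homOfLE_ι hW, Category.assoc]
    exact congrArg _ ((Scheme.topIso _).hom_inv_id_assoc g)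

variable {k}

/-- A curve with an open piece of the projective line is the image of the projective line. -/
theorem exists_dominant_of_iso {C : Scheme.{u}} (qC : C ⟶ Spec (CommRingCat.of k)) [IsProper qC] [IsIntegral C]
    {U : C.Opens} {V : (CohB1.ProjSpace 1 k).Opens} (e : (↑U : Scheme.{u}) ≅ ↑V) [Nonempty U]
    (h : e.hom ≫ V.ι ≫ CohB1.ProjSpace.toSpec 1 k = U.ι ≫ qC) :
    ∃ g : CohB1.ProjSpace 1 k ⟶ C, g ≫ qC = CohB1.ProjSpace.toSpec 1 k ∧ IsDominant g := by
  haveI : Nonempty V := ⟨e.hom (Classical.arbitrary U)⟩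
  obtain ⟨g, hg, hres⟩ := exists_extension k qC V (e.inv ≫ U.ι) (by rw [Category.assoc, ← h, Iso.inv_hom_id_assoc])
  refine ⟨g, hg, ⟨((U.2.dense ⟨_, (Classical.arbitrary U).2⟩).mono ?_)⟩⟩
  intro x hx
  refine ⟨V.ι (e.hom ⟨x, hx⟩), ?_⟩
  rw [← Scheme.Hom.comp_apply, ← Scheme.Hom.comp_apply, hres, Iso.hom_inv_id_assoc]
  rfl

/-- A curve dominated by the projective line has an open piece of it. -/
theorem exists_iso_of_dominant {C : Scheme.{u}} (qC : C ⟶ Spec (CommRingCat.of k)) [LocallyOfFiniteType qC]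
    [IsIntegral C] (hdim : topologicalKrullDim C = 1) (g : CohB1.ProjSpace 1 k ⟶ C) [IsDominant g]
    (hg : g ≫ qC = CohB1.ProjSpace.toSpec 1 k) :
    ∃ (U : C.Opens) (V : (CohB1.ProjSpace 1 k).Opens) (e : (↑U : Scheme.{u}) ≅ ↑V),
      Nonempty U ∧ e.hom ≫ V.ι ≫ CohB1.ProjSpace.toSpec 1 k = U.ι ≫ qC := by
  obtain ⟨hint, -, -⟩ := H28Curve.projLine_facts k
  haveI := hint
  haveI : IsDominant (lineChart k) :=
    ⟨(lineChart k).isOpenEmbedding.isOpen_range.dense ⟨_, Classical.arbitrary (PrimeSpectrum k[X]), rfl⟩⟩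
  obtain ⟨q, a, hq, ha, haq⟩ := exists_openImmersion_of_dominant qC hdim (lineChart k ≫ g)
    (by rw [Category.assoc, hg, lineChart_toSpec])
  haveI := ha
  haveI := nonempty_spec_away hq
  let loc := Spec.map (CommRingCat.ofHom (algebraMap k[X] (Localization.Away q)))
  haveI : IsOpenImmersion loc := IsOpenImmersion.of_isLocalization q
  refine exists_opens_iso qC (CohB1.ProjSpace.toSpec 1 k) a (loc ≫ lineChart k) (Iso.refl _) ?_
  rw [Iso.refl_hom, Category.id_comp, Category.assoc, lineChart_toSpec, haq]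
  change _ = Spec.map (CommRingCat.ofHom (algebraMap k[X] (Localization.Away q))) ≫ _
  rw [← Spec.map_comp, ← CommRingCat.ofHom_comp, ← IsScalarTower.algebraMap_eq]

end Groth.Agent.H17.RatCurve
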