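import Mathlib

/-!
# Finitely generated subalgebras of `k(X)` with full fraction field
-/

universe u

open Polynomial

namespace Groth.Agent.H17.RatCurve

variable {k : Type u} [Field k] {B : Type u} [CommRing B] [Algebra k B]

/-- A subalgebra with fraction field all of `k(X)` agrees with `k[X]` after inverting one element on each side. -/
theorem exists_away_equiv [Algebra.FiniteType k B] (Φ : B →ₐ[k] RatFunc k) (hΦ : Function.Injective Φ)
    (hfrac : ∀ x : RatFunc k, ∃ a b : B, b ≠ 0 ∧ x = Φ a / Φ b) :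
    ∃ (b : B) (q : k[X]), b ≠ 0 ∧ q ≠ 0 ∧ Nonempty (Localization.Away b ≃ₐ[k] Localization.Away q) := by
  classical
  haveI : IsDomain B := hΦ.isDomain Φ.toRingHom
  obtain ⟨S, hS⟩ := Algebra.FiniteType.out (R := k) (A := B)
  let ι : k[X] →ₐ[k] RatFunc k := IsScalarTower.toAlgHom k k[X] (RatFunc k)
  have hι : Function.Injective ι := IsFractionRing.injective k[X] (RatFunc k)
  let p : k[X] := ∏ g ∈ S, (Φ g).denom
  have hp : p ≠ 0 := Finset.prod_ne_zero_iff.2 fun g _ => RatFunc.denom_ne_zero _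
  obtain ⟨a₁, b₁, hb₁, hX⟩ := hfrac (ι X)
  obtain ⟨a₂, b₂, hb₂, hP⟩ := hfrac (ι p)⁻¹
  let b := b₁ * b₂
  have hb : b ≠ 0 := mul_ne_zero hb₁ hb₂
  have hΦb : Φ b ≠ 0 := (map_ne_zero_iff Φ hΦ).2 hb
  have hιp : ι p ≠ 0 := (map_ne_zero_iff ι hι).2 hp
  -- the range of `k[X][1/p]`
  let Tp : Subalgebra k (RatFunc k) :=
    { carrier := {x | ∃ (m : ℕ) (r : k[X]), x * ι p ^ m = ι r}
      mul_mem' := by
        rintro x y ⟨m, r, hr⟩ ⟨m', r', hr'⟩
        exact ⟨m + m', r * r', by rw [map_mul, ← hr, ← hr', pow_add]; ring⟩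
      add_mem' := by
        rintro x y ⟨m, r, hr⟩ ⟨m', r', hr'⟩
        exact ⟨m + m', r * p ^ m' + r' * p ^ m, by
          rw [map_add, map_mul, map_mul, map_pow, map_pow, ← hr, ← hr', pow_add]; ring⟩
      algebraMap_mem' := fun c => ⟨0, algebraMap k k[X] c, by rw [pow_zero, mul_one, AlgHom.commutes]⟩ }
  have hTp : ∀ a : B, Φ a ∈ Tp := fun a => by
    have hle : Algebra.adjoin k (S : Set B) ≤ Tp.comap Φ := Algebra.adjoin_le fun g hg => by
      obtain ⟨c, hc⟩ : (Φ g).denom ∣ p := Finset.dvd_prod_of_mem _ hg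
      refine ⟨1, (Φ g).num * c, ?_⟩
      have hd : ι (Φ g).denom ≠ 0 := (map_ne_zero_iff ι hι).2 (RatFunc.denom_ne_zero _)
      have hnd : ι (Φ g).num / ι (Φ g).denom = Φ g := RatFunc.num_div_denom (Φ g)
      rw [pow_one, hc, map_mul, map_mul, ← mul_assoc]
      exact congrArg (· * ι c) ((div_eq_iff hd).1 hnd).symm
    exact hle (hS ▸ Algebra.mem_top)
  obtain ⟨m, r, hr⟩ := hTp b
  have hr0 : r ≠ 0 := fun h => by
    rw [h, map_zero] at hr
    exact mul_ne_zero hΦb (pow_ne_zero _ hιp) hr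
  have hιr : ι r ≠ 0 := (map_ne_zero_iff ι hι).2 hr0
  let q := p * r
  have hq : ι q ≠ 0 := (map_ne_zero_iff ι hι).2 (mul_ne_zero hp hr0)
  let L₁ : Localization.Away b →ₐ[k] RatFunc k := IsLocalization.liftAlgHom (M := Submonoid.powers b) (f := Φ)
    (fun y => by obtain ⟨_, n, rfl⟩ := y; exact (map_pow Φ b n ▸ (isUnit_iff_ne_zero.2 hΦb).pow n))
  let L₂ : Localization.Away q →ₐ[k] RatFunc k := IsLocalization.liftAlgHom (M := Submonoid.powers q) (f := ι)
    (fun y => by obtain ⟨_, n, rfl⟩ := y; exact (map_pow ι q n ▸ (isUnit_iff_ne_zero.2 hq).pow n))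
  have hL₁a : ∀ a, L₁ (algebraMap B _ a) = Φ a := fun a => IsLocalization.lift_eq _ a
  have hL₂a : ∀ a, L₂ (algebraMap k[X] _ a) = ι a := fun a => IsLocalization.lift_eq _ a
  have hinj : ∀ {C : Type u} [CommRing C] [IsDomain C] (c : C) (_ : c ≠ 0) (g : C →+* RatFunc k)
      (L : Localization.Away c →+* RatFunc k), (∀ a, L (algebraMap C _ a) = g a) → Function.Injective g →
      Function.Injective L := by
    intro C _ _ c hc g L hL hg
    refine (injective_iff_map_eq_zero L).2 fun z hz => ?_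
    obtain ⟨⟨a, s⟩, has⟩ := IsLocalization.surj (Submonoid.powers c) z
    have ha : g a = 0 := by rw [← hL, ← has, map_mul, hz, zero_mul]
    rw [(injective_iff_map_eq_zero g).1 hg a ha, map_zero] at has
    exact (IsLocalization.map_units (Localization.Away c) s).mul_left_eq_zero.1 has
  have i₁ : Function.Injective L₁ := hinj b hb Φ.toRingHom L₁.toRingHom hL₁a hΦ
  have i₂ : Function.Injective L₂ := hinj q (mul_ne_zero hp hr0) ι.toRingHom L₂.toRingHom hL₂a hι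
  have hmem₁ : (Φ b)⁻¹ ∈ L₁.range := by
    refine ⟨IsLocalization.mk' _ 1 (⟨b, 1, pow_one b⟩ : Submonoid.powers b), eq_inv_of_mul_eq_one_left ?_⟩
    rw [← hL₁a]
    change L₁.toRingHom _ * L₁.toRingHom _ = 1
    rw [← map_mul]
    rw [IsLocalization.mk'_spec (Localization.Away b) 1 (⟨b, 1, pow_one b⟩ : Submonoid.powers b), map_one, map_one]
  have hmem₂ : (ι q)⁻¹ ∈ L₂.range := by
    refine ⟨IsLocalization.mk' _ 1 (⟨q, 1, pow_one q⟩ : Submonoid.powers q), eq_inv_of_mul_eq_one_left ?_⟩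
    rw [← hL₂a]
    change L₂.toRingHom _ * L₂.toRingHom _ = 1
    rw [← map_mul]
    rw [IsLocalization.mk'_spec (Localization.Away q) 1 (⟨q, 1, pow_one q⟩ : Submonoid.powers q), map_one, map_one]
  have hle : ∀ {C : Type u} [CommRing C] [Algebra k C] (c : C) (g : C →ₐ[k] RatFunc k)
      (L : Localization.Away c →ₐ[k] RatFunc k), (∀ a, L (algebraMap C _ a) = g a) → g c ≠ 0 →
      ∀ T : Subalgebra k (RatFunc k), (∀ a, g a ∈ T) → (g c)⁻¹ ∈ T → L.range ≤ T := by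
    intro C _ _ c g L hL hc T hT hci z hz
    obtain ⟨w, rfl⟩ := hz
    obtain ⟨⟨a, ⟨_, n, rfl⟩⟩, has⟩ := IsLocalization.surj (Submonoid.powers c) w
    have h := congrArg L has
    rw [map_mul, hL, hL, map_pow] at h
    have : L w = g a * ((g c)⁻¹) ^ n := by
      rw [← h, mul_assoc, ← mul_pow, mul_inv_cancel₀ hc, one_pow, mul_one]
    rw [AlgHom.toRingHom_eq_coe, RingHom.coe_coe, this]
    exact T.mul_mem (hT a) (T.pow_mem hci n)
  have hp₂ : (ι p)⁻¹ ∈ L₂.range := by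
    have : (ι p)⁻¹ = ι r * (ι q)⁻¹ := by simp only [q, map_mul]; field_simp
    rw [this]
    exact L₂.range.mul_mem ⟨_, hL₂a r⟩ hmem₂
  have hr₂ : (ι r)⁻¹ ∈ L₂.range := by
    have : (ι r)⁻¹ = ι p * (ι q)⁻¹ := by simp only [q, map_mul]; field_simp
    rw [this]
    exact L₂.range.mul_mem ⟨_, hL₂a p⟩ hmem₂
  have hX₁ : ι X ∈ L₁.range := by
    have : ι X = Φ (a₁ * b₂) * (Φ b)⁻¹ := by
      have h2 : Φ b₂ ≠ 0 := (map_ne_zero_iff Φ hΦ).2 hb₂
      simp only [b, map_mul, hX]; field_simp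
    rw [this]
    exact L₁.range.mul_mem ⟨_, hL₁a _⟩ hmem₁
  have hP₁ : (ι p)⁻¹ ∈ L₁.range := by
    have : (ι p)⁻¹ = Φ (a₂ * b₁) * (Φ b)⁻¹ := by
      have h1 : Φ b₁ ≠ 0 := (map_ne_zero_iff Φ hΦ).2 hb₁
      simp only [b, map_mul, hP]; field_simp
    rw [this]
    exact L₁.range.mul_mem ⟨_, hL₁a _⟩ hmem₁
  have hk₁ : ∀ a, ι a ∈ L₁.range := fun a => by
    induction a using Polynomial.induction_on with
    | C c => exact (ι.commutes c).symm ▸ L₁.range.algebraMap_mem c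
    | add a a' ha ha' => rw [map_add]; exact L₁.range.add_mem ha ha'
    | monomial n c _ =>
      rw [map_mul, map_pow]
      exact L₁.range.mul_mem ((ι.commutes c).symm ▸ L₁.range.algebraMap_mem c) (L₁.range.pow_mem hX₁ _)
  have hr₁ : (ι r)⁻¹ ∈ L₁.range := by
    have : (ι r)⁻¹ = (Φ b)⁻¹ * (ι p)⁻¹ ^ m := by rw [← hr, mul_inv, inv_pow]
    rw [this]
    exact L₁.range.mul_mem hmem₁ (L₁.range.pow_mem hP₁ _)
  have hrange : L₁.range = L₂.range := by
    refine le_antisymm (hle b Φ L₁ hL₁a hΦb _ (fun a => ?_) ?_) (hle q ι L₂ hL₂a hq _ hk₁ ?_)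
    · obtain ⟨n, s, hs⟩ := hTp a
      have : Φ a = ι s * (ι p)⁻¹ ^ n := by rw [← hs, inv_pow, mul_assoc, mul_inv_cancel₀ (pow_ne_zero _ hιp), mul_one]
      rw [this]
      exact L₂.range.mul_mem ⟨_, hL₂a s⟩ (L₂.range.pow_mem hp₂ _)
    · have : (Φ b)⁻¹ = ι p ^ m * (ι r)⁻¹ := by rw [← hr]; field_simp
      rw [this]
      exact L₂.range.mul_mem (L₂.range.pow_mem ⟨_, hL₂a p⟩ _) hr₂
    · simp only [q, map_mul, mul_inv]
      exact L₁.range.mul_mem hP₁ hr₁
  exact ⟨b, q, hb, mul_ne_zero hp hr0, ⟨((AlgEquiv.ofInjective L₁ i₁).trans (Subalgebra.equivOfEq _ _ hrange)).trans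
    (AlgEquiv.ofInjective L₂ i₂).symm⟩⟩

/-- A nonconstant subalgebra of `k(X)` becomes one with full fraction field after reparametrizing. -/
theorem exists_full_hom (Φ : B →ₐ[k] RatFunc k) (hΦ : Function.Injective Φ)
    (hne : ∃ a, ∀ c : k, Φ a ≠ algebraMap k (RatFunc k) c) :
    ∃ Ψ : B →ₐ[k] RatFunc k, Function.Injective Ψ ∧ ∀ x : RatFunc k, ∃ a b : B, b ≠ 0 ∧ x = Ψ a / Ψ b := by
  let E : IntermediateField k (RatFunc k) := IntermediateField.adjoin k (Set.range Φ)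
  have hmem : ∀ a, Φ a ∈ E := fun a => IntermediateField.subset_adjoin _ _ ⟨a, rfl⟩
  have hE : E ≠ ⊥ := fun h => by
    obtain ⟨a, ha⟩ := hne
    obtain ⟨c, hc⟩ := IntermediateField.mem_bot.1 (h ▸ hmem a)
    exact ha c hc.symm
  let e := RatFunc.Luroth.algEquiv hE
  let Φ' : B →ₐ[k] E := Φ.codRestrict E.toSubalgebra hmem
  refine ⟨(e.symm : E →ₐ[k] RatFunc k).comp Φ', e.symm.injective.comp (fun a a' h => hΦ (congrArg Subtype.val h)), fun x => ?_⟩
  obtain ⟨r, hr, s, hs, hrs⟩ := IntermediateField.mem_adjoin_iff_div.1 (e x).2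
  have hadj : Algebra.adjoin k (Set.range Φ) = Φ.range := by
    refine le_antisymm (Algebra.adjoin_le fun y hy => hy) ?_
    rintro y ⟨a, rfl⟩
    exact Algebra.subset_adjoin ⟨a, rfl⟩
  rw [hadj] at hr hs
  obtain ⟨a, rfl⟩ := hr
  obtain ⟨b, rfl⟩ := hs
  have hx : e x = Φ' a / Φ' b := Subtype.ext (hrs.trans rfl)
  by_cases hb : b = 0
  · refine ⟨0, 1, fun h => ?_, ?_⟩
    · exact one_ne_zero (congrArg Φ h |>.trans (map_zero Φ) |> (map_one Φ).symm.trans)
    · subst hb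
      rw [map_zero, div_zero] at hx
      rw [map_zero, zero_div]
      exact e.map_eq_zero_iff.1 hx
  · refine ⟨a, b, hb, ?_⟩
    have := congrArg e.symm hx
    rw [AlgEquiv.symm_apply_apply, map_div₀] at this
    exact this

end Groth.Agent.H17.RatCurve
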